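import Cfsg.Agent.Lib.Suzuki.TIKernel.Zassenhaus
import Cfsg.Agent.Lib.Suzuki.Ident.Main
import Cfsg.Agent.Lib.OddLocal.CNSolvable
import Cfsg.Agent.Lib.Block.BRTheorem
import Cfsg.Agent.S0727
import Cfsg.Agent.S0738

/-!
A group with such a kernel is `SL(2, 2ⁿ)` or a Suzuki group.
-/

set_option autoImplicit false
set_option linter.unusedSectionVars false
set_option linter.style.haveILetI false

namespace CfsgLib.Suzuki.TIKernel

open CfsgLib.Invol MulAction

universe u

variable {G : Type u} [Group G] [Finite G] {T : Sylow 2 G} {A : Subgroup G}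

namespace Ctx

variable (h : Ctx T A)
include h

theorem central_sq {a x : G} (hx : x ∈ A) (hx2 : x * x = 1) (ha : a ∈ A) : Commute a x := by
  by_cases h1 : x = 1
  · rw [h1]; exact Commute.one_right a
  have hi := invol_of_mul_self hx2 h1
  exact h.central x (h.mem_T x hi (h.A_le_NH hx)) hi a ha

/-- The elements squaring to one. -/
def omega : Subgroup G where
  carrier := {x | x ∈ A ∧ x * x = 1}
  one_mem' := ⟨one_mem A, one_mul 1⟩
  mul_mem' := fun {x y} hx hy => ⟨mul_mem hx.1 hy.1, by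
    rw [show x * y * (x * y) = x * (y * x) * y by group,
      (h.central_sq hx.1 hx.2 hy.1).eq, ← mul_assoc, hx.2, one_mul, hy.2]⟩
  inv_mem' := fun {x} hx => ⟨inv_mem hx.1, by rw [← mul_inv_rev, hx.2, inv_one]⟩

theorem reg (u v : G ⧸ NH T) (hu : u ≠ pt T) (hv : v ≠ pt T) :
    ∃! a : A, (a : G) • u = v := by
  obtain ⟨c, hc, hcu⟩ := h.A_transitive hv hu
  exact ⟨⟨c, hc⟩, hcu, fun c' hc' => Subtype.ext (h.A_inj c'.2 hc hu (hc'.trans hcu.symm))⟩

theorem stab_pt : stabilizer G (pt T) = NH T := by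
  ext g; rw [mem_stabilizer_iff, smul_pt_iff]

theorem A_le_stab : A ≤ stabilizer G (pt T) := by
  rw [stab_pt h]; exact h.A_le_NH

theorem fix_eq {u : G} (hu : u ∈ A) (hu1 : u ≠ 1) {c : G ⧸ NH T} (hc : u • c = c) : c = pt T := by
  by_contra hne
  exact hu1 (h.A_inj hu (one_mem _) hne (by rw [hc, one_smul]))

theorem twoStab_eq (y : G ⧸ NH T) :
    (stabilizer G (pt T) ⊓ stabilizer G y : Subgroup G) = twoStab T y := by
  rw [stab_pt h]; rfl

theorem card_points [Fintype (G ⧸ NH T)] : Nat.card A + 1 = Fintype.card (G ⧸ NH T) := by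
  classical
  obtain ⟨y, hy⟩ := h.exists_ne_pt
  let f : A → {p : G ⧸ NH T // p ≠ pt T} := fun a => ⟨(a : G) • y, fun e => hy (by
    rw [eq_inv_smul_iff.2 e, smul_pt_iff]; exact inv_mem (h.A_le_NH a.2))⟩
  have hf : Function.Bijective f :=
    ⟨fun a b e => Subtype.ext (h.A_inj a.2 b.2 hy (congrArg Subtype.val e)),
      fun p => (h.reg y p.1 hy p.2).exists.imp fun a ha => Subtype.ext ha⟩
  rw [Nat.card_congr (Equiv.ofBijective f hf), Nat.card_eq_fintype_card,
    Fintype.card_subtype_compl, Fintype.card_subtype_eq]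
  exact Nat.sub_add_cancel Fintype.card_pos

theorem twoStab_commute {y : G ⧸ NH T} (hy : y ≠ pt T) {c d : G} (hc : c ∈ twoStab T y)
    (hd : d ∈ twoStab T y) : c * d = d * c := by
  obtain ⟨w, hw, hwy⟩ := se_swap_exists h.stronglyEmbedded hy.symm
  have e1 := h.invert_pt hy hw hwy hc
  have e2 := h.invert_pt hy hw hwy hd
  have e3 := h.invert_pt hy hw hwy (mul_mem hc hd)
  rw [show w * (c * d) * w⁻¹ = (w * c * w⁻¹) * (w * d * w⁻¹) by group, e1, e2, ← mul_inv_rev] at e3
  exact (inv_injective e3).symm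

theorem inv_swap {y : G ⧸ NH T} (hy : y ≠ pt T) {s x : G} (h1 : s • pt T = y) (h2 : s • y = pt T)
    (hx : x ∈ twoStab T y) : s * x * s⁻¹ = x⁻¹ := by
  obtain ⟨w, hw, hwy⟩ := se_swap_exists h.stronglyEmbedded hy.symm
  have hwy' := invol_smul_swap hw hwy
  have hd : w * s ∈ twoStab T y := mem_twoStab.2
    ⟨by rw [mul_smul, h1, hwy'], by rw [mul_smul, h2, hwy]⟩
  have hc := h.twoStab_commute hy hd hx
  have hs : s = w⁻¹ * (w * s) := by group
  rw [hs, invol_inv hw]
  calc w * (w * s) * x * (w * (w * s))⁻¹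
      = w * (((w * s) * x) * (w * s)⁻¹) * w⁻¹ := by group
    _ = w * x * w⁻¹ := by rw [hc, mul_inv_cancel_right]
    _ = x⁻¹ := h.invert_pt hy hw hwy hx

theorem isCyclic_twoStab {y : G ⧸ NH T} (hy : y ≠ pt T) : IsCyclic (twoStab T y) := by
  let V := h.omega
  letI : CommGroup V :=
    { (inferInstance : Group V) with
      mul_comm := fun a b => Subtype.ext (h.central_sq b.2.1 b.2.2 a.2.1).eq }
  obtain ⟨s, hs, hs2⟩ := h.z_invol
  haveI : Nontrivial V := ⟨⟨⟨s, hs, invol_mul_self hs2⟩, 1,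
    fun e => invol_ne_one hs2 (congrArg Subtype.val e)⟩⟩
  have hmem : ∀ (d : twoStab T y) (v : V), (d : G) * v * (d : G)⁻¹ ∈ h.omega := fun d v =>
    ⟨h.conj_mem d d.2.1 v v.2.1, by
      rw [show (d : G) * v * (d : G)⁻¹ * ((d : G) * v * (d : G)⁻¹) =
        (d : G) * ((v : G) * v) * (d : G)⁻¹ by group, v.2.2]; group⟩
  let φ : twoStab T y →* MulAut V :=
    { toFun := fun d =>
        { toFun := fun v => ⟨_, hmem d v⟩
          invFun := fun v => ⟨(d : G)⁻¹ * v * (d : G), by simpa using hmem d⁻¹ v⟩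
          left_inv := fun v => Subtype.ext (by simp only; group)
          right_inv := fun v => Subtype.ext (by simp only; group)
          map_mul' := fun v w => Subtype.ext (by simp only [Subgroup.coe_mul]; group) }
      map_one' := MulEquiv.ext fun v => Subtype.ext (by simp)
      map_mul' := fun c d => MulEquiv.ext fun v => Subtype.ext (by simp [mul_assoc]) }
  refine CfsgLib.OddLocal.isCyclic_of_fpf_of_isNilpotent_of_odd ?_ (h.odd_twoStab hy) φ
    fun d hd v hv => ?_
  · letI : CommGroup (twoStab T y) :=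
      { (inferInstance : Group (twoStab T y)) with
        mul_comm := fun a b => Subtype.ext (h.twoStab_commute hy a.2 b.2) }
    exact CommGroup.isNilpotent
  · by_contra hv1
    refine hd (Subtype.ext (h.semireg hy d.2 v.2.1 (fun e => hv1 (Subtype.ext e)) ?_))
    exact mul_inv_eq_iff_eq_mul.1 (congrArg Subtype.val hv)

/-- The group is `SL(2, 2ⁿ)` or a Suzuki group. -/
theorem classify :
    (∃ (K : Type) (_ : Field K) (_ : Fintype K), (∃ n : ℕ, 2 ≤ n ∧ Fintype.card K = 2 ^ n) ∧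
        Nonempty (G ≃* Matrix.SpecialLinearGroup (Fin 2) K)) ∨ Cfsg.Lie.IsoSuzuki G := by
  classical
  haveI := Fintype.ofFinite G
  haveI := Fintype.ofFinite (G ⧸ NH T)
  obtain ⟨y, hy⟩ := h.exists_ne_pt
  have hZ := h.isZassenhaus
  haveI := hZ.1
  have hE := h.twoStab_eq y
  have hodd : Odd (Nat.card (stabilizer G (pt T) ⊓ stabilizer G y : Subgroup G)) := by
    rw [hE]; exact h.odd_twoStab hy
  have C := CfsgLib.Clifford.zass_of_kernel hZ hy.symm hodd
    (fun s h1 h2 x hx => h.inv_swap hy h1 h2 (hE ▸ hx)) A h.A_le_stab h.card_points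
    (fun u hu hu1 c hc => h.fix_eq hu hu1 hc)
  rcases CfsgLib.Perm.FeitCoherent.feit_bound hZ hy.symm (Nat.card A) _
    h.card_points.symm rfl hodd A h.A_le_stab h.card_points
    (fun u hu hu1 c hc => h.fix_eq hu hu1 hc) with hb | ⟨hP, hna, -⟩
  swap
  · exact Or.inr (CfsgLib.Suzuki.Ident.isoSuzuki_of_zass C hP hna (hE ▸ h.isCyclic_twoStab hy))
  refine Or.inl ?_
  have hAn : (A.subgroupOf (stabilizer G (pt T))).Normal := ⟨fun u hu g => by
    rw [Subgroup.mem_subgroupOf] at hu ⊢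
    exact h.conj_mem g ((SetLike.ext_iff.1 h.stab_pt _).1 g.2) u hu⟩
  obtain ⟨hab, p, f, hp, hexp, hc⟩ := Cfsg.Agent.S0738.result hZ hy.symm
    (by have := h.card_points; omega) A h.A_le_stab hAn h.reg
  obtain ⟨s, t, hs, ht, hs2, ht2, hst⟩ := h.many
  obtain rfl : p = 2 := by
    have := orderOf_dvd_of_pow_eq_one (hexp s (h.T_le hs))
    rw [hs2] at this
    exact ((Nat.prime_dvd_prime_iff_eq Nat.prime_two hp).1 this).symm
  have hA : Nat.card A = 2 ^ f := by have := h.card_points; omega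
  have hsq : ∀ u ∈ A, u * u = 1 := fun u hu => by rw [← pow_two]; exact hexp u hu
  -- the two point stabiliser is as large as possible
  have he : Nat.card (twoStab T y) + 1 = 2 ^ f := by
    rw [h.card_twoStab hy, ← hA]
    haveI := Fintype.ofFinite A
    let e : {i : G // orderOf i = 2 ∧ i ∈ NH T} ≃ {u : A // u ≠ 1} :=
      { toFun := fun i => ⟨⟨i.1, h.T_le (h.mem_T _ i.2.1 i.2.2)⟩,
          fun e => invol_ne_one i.2.1 (congrArg Subtype.val e)⟩
        invFun := fun u => ⟨u.1.1, invol_of_mul_self (hsq _ u.1.2) (fun e => u.2 (Subtype.ext e)),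
          h.A_le_NH u.1.2⟩
        left_inv := fun _ => rfl
        right_inv := fun _ => rfl }
    rw [Nat.card_congr e, Nat.card_eq_fintype_card, Fintype.card_subtype_compl,
      Fintype.card_subtype_eq, Nat.card_eq_fintype_card]
    exact Nat.sub_add_cancel Fintype.card_pos
  have hfull : Nat.card (stabilizer G (pt T) ⊓ stabilizer G y : Subgroup G) =
      Fintype.card (G ⧸ NH T) - 2 := by rw [hE, hc]; omega
  have hf2 : 2 ≤ f := by
    by_contra hlt
    have h1 : Nat.card A ≤ 2 := by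
      rw [hA]
      exact (Nat.pow_le_pow_right (by norm_num) (show f ≤ 1 by omega)).trans (by norm_num)
    have h3 : ({1, s, t} : Finset G).card ≤ Nat.card A := by
      rw [← SetLike.coe_sort_coe, Nat.card_coe_set_eq, ← Set.ncard_coe_finset]
      refine Set.ncard_le_ncard (fun x hx => ?_) (Set.toFinite _)
      simp only [Finset.coe_insert, Finset.coe_singleton, Set.mem_insert_iff,
        Set.mem_singleton_iff] at hx
      rcases hx with rfl | rfl | rfl
      exacts [one_mem A, h.T_le hs, h.T_le ht]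
    rw [Finset.card_eq_three.2 ⟨1, s, t, (invol_ne_one hs2).symm, (invol_ne_one ht2).symm, hst, rfl⟩]
      at h3
    omega
  obtain ⟨h3t, hsharp⟩ := CfsgLib.Perm.ZassenhausClass.sharp_of_full hZ.2.1 hZ.2.2.1 hy.symm hfull
  have hinj : Function.Injective (toPermHom G (G ⧸ NH T)) := fun g g' e =>
    eq_of_smul_eq_smul fun x : G ⧸ NH T => congrFun (congrArg DFunLike.coe e) x
  let e : G ≃* (toPermHom G (G ⧸ NH T)).range := MonoidHom.ofInjective hinj
  have hR3 : IsMultiplyPretransitive (toPermHom G (G ⧸ NH T)).range (G ⧸ NH T) 3 := by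
    rw [isMultiplyPretransitive_iff]
    intro x z
    obtain ⟨g, hg⟩ := isMultiplyPretransitive_iff.mp h3t x z
    refine ⟨e g, Function.Embedding.ext fun i => ?_⟩
    rw [← hg]; rfl
  have hRs : ∀ x : Fin 3 ↪ G ⧸ NH T, stabilizer (toPermHom G (G ⧸ NH T)).range x = ⊥ := by
    intro x
    rw [Subgroup.eq_bot_iff_forall]
    intro r hr
    obtain ⟨g, rfl⟩ := e.surjective r
    have hg : g ∈ stabilizer G x := by
      refine Function.Embedding.ext fun i => ?_
      exact congrArg (fun k : Fin 3 ↪ G ⧸ NH T => k i) hr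
    rw [hsharp x, Subgroup.mem_bot] at hg
    rw [hg, map_one]
  obtain ⟨K, iK, iKf, hK, ⟨e'⟩⟩ := Cfsg.Agent.S0727.result (by omega) hc _ hR3 hRs
  have h2 : ringChar K = 2 := FiniteField.even_card_iff_char_two.2 (by
    rw [hK]
    obtain ⟨k, rfl⟩ := Nat.exists_eq_add_of_le hf2
    rw [pow_add, show (2 : ℕ) ^ 2 = 2 * 2 by norm_num, mul_assoc, Nat.mul_mod_right])
  obtain ⟨e''⟩ := CfsgLib.Block.BrauerReynolds.psl_equiv_sl_char_two K (m := f) (by omega) hK
  exact ⟨K, iK, iKf, ⟨f, hf2, hK⟩, ⟨((e.trans e').trans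
    (MulEquiv.ofBijective _ (CfsgLib.Invol.psl_toPGL_bijective_char_two h2)).symm).trans e''⟩⟩

end Ctx

end CfsgLib.Suzuki.TIKernel
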