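import Cfsg.Agent.Lib.TICent.Invol

/-!
The standing hypotheses: a subgroup `A` of `N(T)` containing the Sylow 2-subgroup `T` and the
centralisers of its non-trivial elements, and meeting its conjugates trivially.
-/

set_option autoImplicit false
set_option linter.unusedSectionVars false

namespace CfsgLib.Suzuki.TIKernel

open CfsgLib.Invol

variable {G : Type*} [Group G] [Finite G]

/-- The standing hypotheses for the action on the cosets of `N(T)`. -/
structure Ctx (T : Sylow 2 G) (A : Subgroup G) : Prop where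
  cop : ∀ {e a b : G}, orderOf e = 2 → Commute a e → Commute b e →
    (orderOf a).Coprime (orderOf b) → Commute a b
  stronglyEmbedded : Cfsg.IsStronglyEmbedded (NH T)
  T_le : (T : Subgroup G) ≤ A
  A_le_NH : A ≤ NH T
  many : ∃ s t : G, s ∈ (T : Subgroup G) ∧ t ∈ (T : Subgroup G) ∧ orderOf s = 2 ∧
    orderOf t = 2 ∧ s ≠ t
  mem_T : ∀ i, orderOf i = 2 → i ∈ NH T → i ∈ (T : Subgroup G)
  central : ∀ s ∈ (T : Subgroup G), orderOf s = 2 → ∀ a ∈ A, Commute a s
  conj_mem : ∀ d ∈ NH T, ∀ a ∈ A, d * a * d⁻¹ ∈ A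
  mem_of_commute : ∀ a ∈ A, a ≠ 1 → ∀ b, Commute b a → b ∈ A
  mem_NH : ∀ g, ∀ a ∈ A, a ≠ 1 → g * a * g⁻¹ ∈ A → g ∈ NH T

end CfsgLib.Suzuki.TIKernel
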