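import Cfsg.Agent.Lib.Suzuki.TIKernel.Classify
import Cfsg.Agent.Lib.Comp.Subnormal
import Cfsg.Agent.Lib.FT.OddOrder
import Cfsg.Agent.Lib.Invol.BrauerSuzuki
import Cfsg.Agent.Lib.Coherent.FrobeniusKernel
import Cfsg.Agent.S0034
import Cfsg.Agent.S0035
import Cfsg.Prelude.Def_Solvable

/-!
Groups whose maximal solvable subgroups have trivial intersection Frobenius kernels.
-/

set_option autoImplicit false
set_option linter.unusedSectionVars false
set_option linter.style.haveILetI false

namespace CfsgLib.Suzuki.TIKernel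

open CfsgLib.Invol Subgroup
open scoped Pointwise commutatorElement

universe u

variable {G : Type u} [Group G] [Finite G]

/-- A maximal solvable subgroup. -/
def MaxSolv (M : Subgroup G) : Prop :=
  Group.IsSolvable M ∧ ∀ M' : Subgroup G, M < M' → ¬ Group.IsSolvable M'

/-- The hypothesis on the assigned normal subgroups. -/
def KernelHyp (F : Subgroup G → Subgroup G) : Prop :=
  ∀ M : Subgroup G, MaxSolv M →
    F M ≤ M ∧ M ≤ normalizer (F M : Set G) ∧
    (∀ a ∈ M, a ∉ F M → ∀ x ∈ F M, x * a = a * x → x = 1) ∧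
    (∀ g : G, g ∉ M → F M ⊓ (MulAut.conj g • F M) = ⊥) ∧
    (F M ≠ ⊥ ∨ IsMulCommutative M)

theorem exists_maxSolv (R : Subgroup G) (hR : Group.IsSolvable R) :
    ∃ M, MaxSolv M ∧ R ≤ M := by
  obtain ⟨M, ⟨hM, hRM⟩, hmax⟩ := Set.Finite.exists_maximalFor id
    {K : Subgroup G | Group.IsSolvable K ∧ R ≤ K} (Set.toFinite _) ⟨R, hR, le_rfl⟩
  exact ⟨M, ⟨hM, fun M' hlt hs => hlt.not_ge (hmax ⟨hs, hRM.trans hlt.le⟩ hlt.le)⟩, hRM⟩

theorem isSolvable_of_odd_normal {K : Subgroup G} [K.Normal] (hK : Odd (Nat.card K))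
    (hq : Group.IsSolvable (G ⧸ K)) : Group.IsSolvable G := by
  have : Group.IsSolvable K := CfsgLib.FT.odd_order_solvable hK
  exact solvable_of_ker_le_range K.subtype (QuotientGroup.mk' K) (by
    rw [QuotientGroup.ker_mk', Subgroup.range_subtype])

/-- A unique involution of a Sylow 2-subgroup is isolated. -/
theorem isolated_of_unique (S : Sylow 2 G) {z : G} (hzS : z ∈ (S : Subgroup G))
    (hz : orderOf z = 2) (huniq : ∀ i ∈ (S : Subgroup G), orderOf i = 2 → i = z) :
    Cfsg.IsIsolatedInvolution z := by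
  have : Fact (Nat.Prime 2) := ⟨Nat.prime_two⟩
  refine ⟨hz, fun g hg => ?_⟩
  have hw : orderOf (g * z * g⁻¹) = 2 := (orderOf_conj_eq g z).trans hz
  have hp : ∀ {x : G}, orderOf x = 2 → IsPGroup 2 (zpowers x) := fun {x} hx =>
    IsPGroup.of_card (n := 1) (by rw [Nat.card_zpowers, hx, pow_one])
  have hnorm : zpowers (g * z * g⁻¹) ≤ normalizer (zpowers z : Set G) := by
    refine zpowers_le.2 (mem_normalizer_fintype fun x hx => ?_)
    obtain ⟨i, rfl⟩ := mem_zpowers_iff.1 hx
    rw [(hg.symm.zpow_right i).eq, mul_inv_cancel_right]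
    exact zpow_mem (mem_zpowers z) i
  obtain ⟨k, hk⟩ := exists_conj_mem_sylow S ((hp hz).to_sup_of_normal_left' (hp hw) hnorm)
  have e1 := huniq _ (hk z (mem_sup_left (mem_zpowers z))) ((orderOf_conj_eq k z).trans hz)
  have e2 := huniq _ (hk _ (mem_sup_right (mem_zpowers _))) ((orderOf_conj_eq k _).trans hw)
  exact mul_left_cancel (mul_right_cancel (e2.trans e1.symm))

variable {F : Subgroup G → Subgroup G} (hF : KernelHyp F) {M : Subgroup G} (hM : MaxSolv M)

include hF hM

theorem mem_of_conj {g x : G} (hx : x ∈ F M) (hx1 : x ≠ 1) (hg : g⁻¹ * x * g ∈ F M) : g ∈ M := by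
  by_contra hgM
  have hm : x ∈ F M ⊓ (MulAut.conj g • F M) :=
    ⟨hx, mem_pointwise_smul_iff_inv_smul_mem.2 (by
      rw [← map_inv, MulAut.smul_def, MulAut.conj_apply, inv_inv]; exact hg)⟩
  rw [(hF M hM).2.2.2.1 g hgM, mem_bot] at hm
  exact hx1 hm

theorem mem_of_commute {x g : G} (hx : x ∈ F M) (hx1 : x ≠ 1) (hg : Commute g x) : g ∈ F M := by
  have hgM : g ∈ M := mem_of_conj hF hM hx hx1 (by
    rw [mul_assoc, ← hg.eq, inv_mul_cancel_left]; exact hx)
  by_contra hgF
  exact hx1 ((hF M hM).2.2.1 g hgM hgF x hx hg.eq.symm)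

theorem conj_mem {g x : G} (hg : g ∈ M) (hx : x ∈ F M) : g * x * g⁻¹ ∈ F M :=
  (mem_normalizer_iff.1 ((hF M hM).2.1 hg) x).1 hx

theorem not_normal_solvable (hns : ¬ Group.IsSolvable G) (hne : F M ≠ ⊥) (R : Subgroup G)
    [R.Normal] (hR : Group.IsSolvable R) : R = ⊥ := by
  by_contra hR1
  obtain ⟨A, hA, hAR, hA1, hAab⟩ : ∃ A : Subgroup G, A.Normal ∧ A ≤ R ∧ A ≠ ⊥ ∧
      ∀ x ∈ A, ∀ y ∈ A, x * y = y * x := by
    obtain ⟨n, hn⟩ := hR
    have hex : ∃ n, (derivedSeries R n).map R.subtype = ⊥ := ⟨n, by rw [hn, Subgroup.map_bot]⟩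
    classical
    obtain ⟨k, hk⟩ : ∃ k, Nat.find hex = k + 1 := by
      refine Nat.exists_eq_succ_of_ne_zero fun h0 => hR1 ?_
      have := Nat.find_spec hex
      rwa [h0, derivedSeries_zero, ← MonoidHom.range_eq_map, range_subtype] at this
    refine ⟨(derivedSeries R k).map R.subtype, ?_, map_subtype_le _, Nat.find_min hex (by omega), ?_⟩
    · have : (derivedSeries R k).Characteristic := inferInstance
      exact ConjAct.normal_of_characteristic_of_normal
    · rintro _ ⟨x, hx, rfl⟩ _ ⟨y, hy, rfl⟩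
      have h1 := Nat.find_spec hex
      rw [hk, derivedSeries_succ, map_eq_bot_iff_of_injective _ R.subtype_injective] at h1
      have h2 : ⁅x, y⁆ ∈ (⊥ : Subgroup R) := h1 ▸ commutator_mem_commutator hx hy
      exact congrArg Subtype.val (commutatorElement_eq_one_iff_mul_comm.1 (mem_bot.1 h2))
  have := hR
  have hAs : Group.IsSolvable A := Group.isSolvable_of_isSolvable_injective (Subgroup.inclusion_injective hAR)
  have hAM : A ≤ M := by
    by_contra hle
    refine hM.2 (A ⊔ M) (lt_of_le_not_ge le_sup_right fun h => hle (le_sup_left.trans h)) ?_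
    exact CfsgLib.Comp.isSolvable_sup (by rw [normalizer_eq_top_iff.2 hA]; exact le_top) hAs hM.1
  obtain ⟨x, hxF, hxA, hx1⟩ : ∃ x ∈ F M, x ∈ A ∧ x ≠ 1 := by
    by_contra hcon
    push Not at hcon
    refine hA1 ((eq_bot_iff_forall _).2 fun r hr => ?_)
    by_contra hr1
    obtain ⟨⟨f, hf⟩, hf1⟩ := ne_bot_iff_exists_ne_one.1 hne
    have hcomm : r * f * r⁻¹ * f⁻¹ = 1 := by
      refine hcon _ (mul_mem (conj_mem hF hM (hAM hr) hf) (inv_mem hf)) ?_
      rw [show r * f * r⁻¹ * f⁻¹ = r * (f * r⁻¹ * f⁻¹) by group]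
      exact mul_mem hr (hA.conj_mem _ (inv_mem hr) f)
    have hrf : Commute r f := commutatorElement_eq_one_iff_mul_comm.1
      (by rw [commutatorElement_def]; exact hcomm)
    exact hr1 (hcon r (mem_of_commute hF hM hf (fun e => hf1 (Subtype.ext e)) hrf) hr)
  have hAF : A ≤ F M := fun r hr => mem_of_commute hF hM hxF hx1 (hAab r hr x hxA)
  refine hns ?_
  have htop : M = ⊤ := (eq_top_iff' M).2 fun g => mem_of_conj hF hM hxF hx1
    (hAF (by simpa using hA.conj_mem x hxA g⁻¹))
  have := hM.1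
  rw [htop] at this
  exact Group.isSolvable_of_surjective (f := (Subgroup.topEquiv (G := G)).toMonoidHom)
    (Subgroup.topEquiv (G := G)).surjective

omit hM in
/-- An isolated involution contradicts the hypotheses. -/
theorem no_isolated (hns : ¬ Group.IsSolvable G) {M : Subgroup G} (hM : MaxSolv M) (hne : F M ≠ ⊥)
    {z : G} (hz : Cfsg.IsIsolatedInvolution z) : False := by
  have hO : Cfsg.oddCore G = ⊥ :=
    not_normal_solvable hF hM hns hne _ (CfsgLib.FT.odd_order_solvable (odd_card_oddCore G))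
  have hzc : ∀ g : G, z * g = g * z := fun g => by
    have h := zstar G hz g
    rw [hO, mem_bot] at h
    exact commutatorElement_eq_one_iff_mul_comm.1 (by rw [commutatorElement_def]; exact h)
  have hn : (zpowers z).Normal := ⟨fun x hx g => by
    obtain ⟨i, rfl⟩ := mem_zpowers_iff.1 hx
    rw [((show Commute g z from (hzc g).symm).zpow_right i).eq, mul_inv_cancel_right]
    exact zpow_mem (mem_zpowers z) i⟩
  refine invol_ne_one hz.1 ?_
  have := not_normal_solvable hF hM hns hne (zpowers z) inferInstance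
  rw [← mem_bot, ← this]
  exact mem_zpowers z

omit hM in
/-- A Sylow 2-subgroup lies in the kernel of a maximal solvable subgroup. -/
theorem exists_kernel (hns : ¬ Group.IsSolvable G) (S : Sylow 2 G) :
    ∃ M, MaxSolv M ∧ (S : Subgroup G) ≤ F M := by
  have : Fact (Nat.Prime 2) := ⟨Nat.prime_two⟩
  have hSsol : Group.IsSolvable (S : Subgroup G) := by
    have := S.isPGroup'.isNilpotent
    infer_instance
  obtain ⟨M, hM, hSM, hne⟩ : ∃ M, MaxSolv M ∧ (S : Subgroup G) ≤ M ∧ F M ≠ ⊥ := by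
    obtain ⟨M₁, hM₁, hSM₁⟩ := exists_maxSolv (S : Subgroup G) hSsol
    by_contra hcon
    push Not at hcon
    have hbot := hcon M₁ hM₁ hSM₁
    have hab : IsMulCommutative M₁ := ((hF M₁ hM₁).2.2.2.2).resolve_left (not_not.2 hbot)
    refine hns ?_
    have hP : normalizer ((S : Subgroup G) : Set G) ≤ centralizer ((S : Subgroup G) : Set G) := by
      intro g hg
      rw [mem_centralizer_iff]
      intro x hx
      have hsol : Group.IsSolvable ↥((S : Subgroup G) ⊔ zpowers g) :=
        CfsgLib.Comp.isSolvable_sup (zpowers_le.2 hg) hSsol inferInstance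
      obtain ⟨M', hM', hle⟩ := exists_maxSolv _ hsol
      have hab' : IsMulCommutative M' :=
        ((hF M' hM').2.2.2.2).resolve_left (not_not.2 (hcon M' hM' (le_sup_left.trans hle)))
      exact congrArg Subtype.val (hab'.is_comm.comm (⟨x, hle (mem_sup_left hx)⟩ : M')
        ⟨g, hle (mem_sup_right (mem_zpowers g))⟩)
    have hc := MonoidHom.ker_transferSylow_isComplement' S hP
    refine isSolvable_of_odd_normal (K := (MonoidHom.transferSylow S hP).ker) ?_ ?_
    · refine Nat.not_even_iff_odd.1 fun he => S.not_dvd_index ?_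
      have h1 := hc.card_mul_card
      rw [← Subgroup.card_mul_index (S : Subgroup G), mul_comm (Nat.card _)] at h1
      rw [← Nat.eq_of_mul_eq_mul_left Nat.card_pos
        (show Nat.card (S : Subgroup G) * Nat.card (MonoidHom.transferSylow S hP).ker =
          Nat.card (S : Subgroup G) * (S : Subgroup G).index by rw [h1, mul_comm])]
      exact even_iff_two_dvd.1 he
    · exact Group.isSolvable_of_isSolvable_injective (QuotientGroup.kerLift_injective _)
  refine ⟨M, hM, ?_⟩
  by_cases hev : Even (Nat.card (F M))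
  · obtain ⟨i, hiF, hi⟩ := exists_invol_mem hev
    have hiM := (hF M hM).1 hiF
    -- a conjugate of `i` in `M` lies in `S`
    have hS' : ((S : Subgroup G).subgroupOf M).map M.subtype = (S : Subgroup G) := by
      rw [subgroupOf_map_subtype, inf_eq_left.2 hSM]
    obtain ⟨k, hk⟩ := exists_conj_mem_sylow (S.subtype hSM)
      (IsPGroup.of_card (n := 1) (by
        rw [Nat.card_zpowers, ← Subgroup.orderOf_coe, hi, pow_one]) :
        IsPGroup 2 (zpowers (⟨i, hiM⟩ : M)))
    set x : G := (k : G) * i * (k : G)⁻¹ with hxdef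
    have hxS : x ∈ (S : Subgroup G) := by
      have : k * (⟨i, hiM⟩ : M) * k⁻¹ ∈ ((S.subtype hSM : Sylow 2 M) : Subgroup M) :=
        hk _ (mem_zpowers _)
      rw [Sylow.coe_subtype, mem_subgroupOf] at this
      exact this
    have hxF : x ∈ F M := conj_mem hF hM k.2 hiF
    have hx1 : x ≠ 1 := fun e => invol_ne_one hi (conj_eq_one_iff.1 e)
    haveI : Nontrivial (S : Subgroup G) := ⟨⟨⟨x, hxS⟩, 1, fun e => hx1 (congrArg Subtype.val e)⟩⟩
    haveI : Nontrivial (center (S : Subgroup G)) := S.isPGroup'.center_nontrivial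
    obtain ⟨⟨⟨c, hcS⟩, hcc⟩, hc1⟩ := exists_ne (1 : center (S : Subgroup G))
    have hc1' : c ≠ 1 := fun e => hc1 (Subtype.ext (Subtype.ext e))
    have hcF : c ∈ F M := mem_of_commute hF hM hxF hx1
      (congrArg Subtype.val (mem_center_iff.1 hcc ⟨x, hxS⟩).symm)
    exact fun s hs => mem_of_commute hF hM hcF hc1'
      (congrArg Subtype.val (mem_center_iff.1 hcc ⟨s, hs⟩))
  · exfalso
    rw [Nat.not_even_iff_odd] at hev
    have hSne : (S : Subgroup G) ≠ ⊥ := fun e => hns (CfsgLib.FT.odd_order_solvable (by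
      rw [← Nat.not_even_iff_odd]
      intro he
      refine S.not_dvd_index ?_
      rw [e, index_bot]
      exact even_iff_two_dvd.1 he))
    obtain ⟨z, hzS, hz⟩ : ∃ z ∈ (S : Subgroup G), orderOf z = 2 := exists_invol_mem (by
      obtain ⟨k, hk⟩ := IsPGroup.iff_card.1 S.isPGroup'
      rw [hk, Nat.even_pow]
      exact ⟨even_two, fun e => hSne (card_eq_one.1 (by rw [hk, e, pow_zero]))⟩)
    have hnot : ∀ i ∈ (S : Subgroup G), orderOf i = 2 → i ∉ F M := fun i _ hi hiF => by
      have := Subgroup.orderOf_dvd_natCard _ hiF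
      rw [hi] at this
      exact Nat.not_even_iff_odd.2 hev (even_iff_two_dvd.2 this)
    have hinv : ∀ i ∈ (S : Subgroup G), orderOf i = 2 → ∀ f ∈ F M, i * f * i⁻¹ = f⁻¹ := by
      intro i hiS hi f hf
      let φ : F M → F M := fun y =>
        ⟨(y : G)⁻¹ * (i * y * i⁻¹), mul_mem (inv_mem y.2) (conj_mem hF hM (hSM hiS) y.2)⟩
      have hφ : Function.Injective φ := fun a b e => by
        have e' : (a : G)⁻¹ * (i * a * i⁻¹) = (b : G)⁻¹ * (i * b * i⁻¹) := congrArg Subtype.val e
        refine Subtype.ext (mul_inv_eq_one.1 ((hF M hM).2.2.1 i (hSM hiS) (hnot i hiS hi)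
          _ (mul_mem b.2 (inv_mem a.2)) ?_)).symm
        have e'' : (b : G) * (a : G)⁻¹ = i * ((b : G) * (a : G)⁻¹) * i⁻¹ := by
          calc (b : G) * (a : G)⁻¹ = b * ((a : G)⁻¹ * (i * a * i⁻¹)) * (i * a * i⁻¹)⁻¹ := by group
            _ = _ := by rw [e']; group
        exact eq_mul_inv_iff_mul_eq.1 e''
      obtain ⟨y, hy⟩ := (Finite.injective_iff_surjective.1 hφ) ⟨f, hf⟩
      rw [show f = (y : G)⁻¹ * (i * y * i⁻¹) from (congrArg Subtype.val hy).symm, invol_inv hi]
      have hii := invol_mul_self hi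
      calc i * ((y : G)⁻¹ * (i * y * i)) * i = i * (y : G)⁻¹ * i * y * (i * i) := by group
        _ = i * (y : G)⁻¹ * i * y := by rw [hii, mul_one]
        _ = ((y : G)⁻¹ * (i⁻¹ * y * i⁻¹))⁻¹ := by group
        _ = _ := by rw [invol_inv hi]
    refine no_isolated hF hns hM hne (isolated_of_unique S hzS hz fun i hiS hi => ?_)
    obtain ⟨⟨f, hf⟩, hf1⟩ := ne_bot_iff_exists_ne_one.1 hne
    have hcomm : Commute (z * i) f := by
      refine mul_inv_eq_iff_eq_mul.1 ?_
      rw [show z * i * f * (z * i)⁻¹ = z * (i * f * i⁻¹) * z⁻¹ by group, hinv i hiS hi f hf,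
        hinv z hzS hz _ (inv_mem hf), inv_inv]
    have hm := mem_of_commute hF hM hf (fun e => hf1 (Subtype.ext e)) hcomm
    have hone : z * i = 1 := by
      by_contra hne1
      obtain ⟨k, hk⟩ := S.isPGroup' ⟨z * i, mul_mem hzS hiS⟩
      have hd : orderOf (z * i) ∣ 2 ^ k := orderOf_dvd_of_pow_eq_one (congrArg Subtype.val hk)
      have h1 : Odd (orderOf (z * i)) := hev.of_dvd_nat (Subgroup.orderOf_dvd_natCard _ hm)
      exact hne1 (orderOf_eq_one_iff.1 (Nat.eq_one_of_dvd_coprimes
        (Nat.Coprime.pow_left k (Nat.coprime_two_left.2 h1)) hd dvd_rfl))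
    rw [← invol_inv hz]
    exact (inv_eq_of_mul_eq_one_right hone).symm

omit hM in
/-- The classification. -/
theorem main : Group.IsSolvable G ∨
    (∃ (K : Type) (_ : Field K) (_ : Fintype K), (∃ n : ℕ, 2 ≤ n ∧ Fintype.card K = 2 ^ n) ∧
        Nonempty (G ≃* Matrix.SpecialLinearGroup (Fin 2) K)) ∨ Cfsg.Lie.IsoSuzuki G := by
  classical
  by_cases hns : Group.IsSolvable G
  · exact Or.inl hns
  refine Or.inr ?_
  have : Fact (Nat.Prime 2) := ⟨Nat.prime_two⟩
  obtain ⟨S⟩ : Nonempty (Sylow 2 G) := inferInstance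
  obtain ⟨M, hM, hSF⟩ := exists_kernel hF hns S
  have hFM := (hF M hM).1
  obtain ⟨z₀, hz₀S, hz₀⟩ : ∃ z ∈ (S : Subgroup G), orderOf z = 2 := exists_invol_mem (by
    by_contra he
    refine hns (CfsgLib.FT.odd_order_solvable ?_)
    rw [← Subgroup.card_mul_index (S : Subgroup G)]
    exact Odd.mul (Nat.not_even_iff_odd.1 he)
      (Nat.not_even_iff_odd.1 fun h => S.not_dvd_index (even_iff_two_dvd.1 h)))
  have hne : F M ≠ ⊥ := fun e => invol_ne_one hz₀ (by simpa [e] using hSF hz₀S)
  have hMtop : M ≠ ⊤ := fun e => hns (by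
    have := hM.1
    rw [e] at this
    exact Group.isSolvable_of_surjective (f := (Subgroup.topEquiv (G := G)).toMonoidHom)
      (Subgroup.topEquiv (G := G)).surjective)
  have hlt : F M ≠ M := by
    intro e
    have hMne : M ≠ ⊥ := fun h => hne (by rw [e, h])
    have hcompl : Cfsg.IsFrobeniusComplement M := ⟨hMne, hMtop, fun g hg => by
      have := (hF M hM).2.2.2.1 g hg
      rwa [e] at this⟩
    obtain ⟨N, hNs, hN, hNc⟩ := Cfsg.Agent.S0035.result M hcompl
    have hcard : Nat.card N = M.index := hNc.index_eq_card.symm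
    have hmod := (Cfsg.Agent.S0034.result M hcompl).2
    have hMev : 2 ∣ Nat.card M := hz₀ ▸ Subgroup.orderOf_dvd_natCard _ (hFM (hSF hz₀S))
    have hNodd : Odd (Nat.card N) := by
      rw [hcard, Nat.odd_iff]
      have h1 := congrArg (· % 2) hmod
      simpa [Nat.mod_mod_of_dvd _ hMev] using h1
    have hNbot := not_normal_solvable hF hM hns hne N (CfsgLib.FT.odd_order_solvable hNodd)
    rw [hNbot, card_bot] at hcard
    exact hMtop (index_eq_one.1 hcard.symm)
  have hnil : Group.IsNilpotent (F M) := by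
    haveI hn : ((F M).subgroupOf M).Normal :=
      (normal_subgroupOf_iff_le_normalizer hFM).2 (hF M hM).2.1
    haveI := Fintype.ofFinite M
    have hC : ∀ x ∈ (F M).subgroupOf M, x ≠ 1 → centralizer ({x} : Set M) ≤ (F M).subgroupOf M :=
      fun x hx hx1 g hg => mem_subgroupOf.2 (mem_of_commute hF hM (mem_subgroupOf.1 hx)
        (fun e => hx1 (Subtype.ext e))
        (congrArg Subtype.val (mem_centralizer_singleton_iff.1 hg)))
    have h1 := CfsgLib.Coherent.frobenius_kernel_nilpotent hC (fun e => hlt (le_antisymm hFM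
      fun x hx => (e ▸ mem_top (⟨x, hx⟩ : M) : (⟨x, hx⟩ : M) ∈ (F M).subgroupOf M)))
    exact Group.nilpotent_of_mulEquiv (subgroupOfEquivOfLe hFM)
  have hFNH : F M ≤ NH S := CfsgLib.TICent.le_NH_of_nilpotent hSF hnil
  have hSn : ((S.subtype hSF : Sylow 2 (F M)) : Subgroup (F M)).Normal := by
    rw [Sylow.coe_subtype]; exact (normal_subgroupOf_iff_le_normalizer hSF).2 hFNH
  have hMN : M = NH S := by
    refine le_antisymm (fun g hg => mem_normalizer_fintype fun s hs => ?_) fun g hg => ?_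
    · obtain ⟨k, hk⟩ := CfsgLib.TICent.exists_two_pow hs
      exact CfsgLib.TICent.mem_T_of_two (hFNH (conj_mem hF hM hg (hSF hs)))
        ⟨k, by rw [conj_pow, hk, mul_one, mul_inv_cancel]⟩
    · exact mem_of_conj hF hM (hSF hz₀S) (invol_ne_one hz₀)
        (hSF ((mem_normalizer_iff''.1 hg z₀).1 hz₀S))
  have hmemT : ∀ i, orderOf i = 2 → i ∈ NH S → i ∈ (S : Subgroup G) := fun i hi hiH =>
    CfsgLib.TICent.mem_T_of_two hiH ⟨1, by rw [pow_one, pow_two, invol_mul_self hi]⟩
  have hse : Cfsg.IsStronglyEmbedded (NH S) := by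
    refine ⟨fun e => hMtop (hMN.trans e), even_iff_two_dvd.2 (hz₀ ▸
      Subgroup.orderOf_dvd_natCard (NH S) (le_normalizer hz₀S)), fun g hg => ?_⟩
    by_contra hodd
    rw [Nat.not_odd_iff_even] at hodd
    obtain ⟨i, ⟨hiH, k, hk, hki⟩, hi⟩ := exists_invol_mem hodd
    have hki' : g * k * g⁻¹ = i := hki
    have hk2 : orderOf k = 2 := by rw [← orderOf_conj_eq g k, hki', hi]
    exact hg (hMN ▸ mem_of_conj hF hM (hSF (hmemT i hi hiH)) (invol_ne_one hi)
      (by rw [← hki']; simpa [mul_assoc] using hSF (hmemT k hk2 hk)))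
  have hmany : ∃ t ∈ (S : Subgroup G), orderOf t = 2 ∧ t ≠ z₀ := by
    by_contra hcon
    push Not at hcon
    exact no_isolated hF hns hM hne (isolated_of_unique S hz₀S hz₀ hcon)
  obtain ⟨t₀, ht₀S, ht₀, ht₀z⟩ := hmany
  -- a central involution of the kernel
  obtain ⟨z, hzS, hz, hzc⟩ : ∃ z ∈ (S : Subgroup G), orderOf z = 2 ∧
      ∀ a ∈ F M, Commute a z := by
    haveI : Nontrivial (S : Subgroup G) :=
      ⟨⟨⟨z₀, hz₀S⟩, 1, fun e => invol_ne_one hz₀ (congrArg Subtype.val e)⟩⟩
    obtain ⟨k, hk0, hk⟩ := (S.isPGroup'.to_subgroup (center (S : Subgroup G))).nontrivial_iff_card.1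
      S.isPGroup'.center_nontrivial
    obtain ⟨c, hc⟩ := exists_prime_orderOf_dvd_card' (G := center (S : Subgroup G)) 2 (by
      rw [hk]; exact dvd_pow_self 2 hk0.ne')
    have hc2 : orderOf ((c : (S : Subgroup G)) : G) = 2 := by
      rw [Subgroup.orderOf_coe, Subgroup.orderOf_coe, hc]
    refine ⟨_, (c : (S : Subgroup G)).2, hc2, fun a ha => ?_⟩
    obtain ⟨u, v, rfl, hu, hv, hu2, hvodd⟩ := CfsgLib.TICent.exists_parts a
    by_cases huv : u * v = 1
    · rw [huv]; exact Commute.one_left _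
    have huF : u ∈ F M := mem_of_commute hF hM ha huv (hu _ (Commute.refl _)).symm
    have hvF : v ∈ F M := mem_of_commute hF hM ha huv (hv _ (Commute.refl _)).symm
    refine Commute.mul_left ?_ ?_
    · exact congrArg Subtype.val (mem_center_iff.1 c.2
        ⟨u, CfsgLib.TICent.mem_T_of_two (hFNH huF) hu2⟩)
    · exact congrArg Subtype.val (CfsgLib.OddLocal.commute_of_coprime_of_isNilpotent hnil
        (x := (⟨v, hvF⟩ : F M)) (y := ⟨_, hSF (c : (S : Subgroup G)).2⟩) (by
          rw [← Subgroup.orderOf_coe, ← Subgroup.orderOf_coe]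
          exact (CfsgLib.TICent.coprime_of_two ⟨1, by
            rw [pow_one, pow_two, invol_mul_self hc2]⟩ hvodd).symm)).eq
  exact (Ctx.classify (T := S) (A := F M)
    { cop := fun {e a b} he hae hbe hab => by
        obtain ⟨g, hg⟩ := exists_conj_mem_sylow S
          (IsPGroup.of_card (n := 1) (by rw [Nat.card_zpowers, he, pow_one]) :
            IsPGroup 2 (zpowers e))
        have he' : g * e * g⁻¹ ∈ F M := hSF (hg e (mem_zpowers e))
        have he1 : g * e * g⁻¹ ≠ 1 := by simpa using invol_ne_one he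
        have hm : ∀ x, Commute x e → g * x * g⁻¹ ∈ F M := fun x hx =>
          mem_of_commute hF hM he' he1 (by simpa using hx.map (MulAut.conj g).toMonoidHom)
        have := congrArg Subtype.val (CfsgLib.OddLocal.commute_of_coprime_of_isNilpotent hnil
          (x := (⟨_, hm a hae⟩ : F M)) (y := ⟨_, hm b hbe⟩) (by
            rwa [← Subgroup.orderOf_coe, ← Subgroup.orderOf_coe, orderOf_conj_eq,
              orderOf_conj_eq])).eq
        exact (MulAut.conj g).injective (by simpa using this)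
      stronglyEmbedded := hse
      T_le := hSF
      A_le_NH := hFNH
      many := ⟨t₀, z₀, ht₀S, hz₀S, ht₀, hz₀, ht₀z⟩
      mem_T := hmemT
      central := fun s hs hs2 a ha => by
        obtain ⟨g, hg⟩ := isConj_iff.1 (se_isConj hse hz hs2)
        have hgM : g ∈ M := mem_of_conj hF hM (hSF hs) (invol_ne_one hs2)
          (by rw [← hg]; simpa [mul_assoc] using hSF hzS)
        have ha' := hzc _ (conj_mem hF hM (inv_mem hgM) ha)
        have := ha'.map (MulAut.conj g).toMonoidHom
        simpa [hg, mul_assoc] using this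
      conj_mem := fun d hd a ha => conj_mem hF hM (hMN ▸ hd) ha
      mem_of_commute := fun a ha ha1 b hb => mem_of_commute hF hM ha ha1 hb
      mem_NH := fun g a ha ha1 hg => hMN ▸ mem_of_conj hF hM hg (by simpa using ha1)
        (by simpa [mul_assoc] using ha) })

end CfsgLib.Suzuki.TIKernel
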