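import Cfsg.Agent.Lib.Suzuki.TIKernel.Ctx

/-!
# The Zassenhaus action of a trivial intersection kernel

The action on the cosets of `N_G(T)` is a Zassenhaus action.  (After `Lib/TICent/Zassenhaus`,
with nilpotent involution centralisers in place of TI centralisers.)
-/

set_option autoImplicit false
set_option linter.unusedSectionVars false

namespace CfsgLib.Suzuki.TIKernel

open CfsgLib.Invol

variable {G : Type*} [Group G] [Finite G] {T : Sylow 2 G} {A : Subgroup G}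

namespace Ctx

variable (h : Ctx T A)
include h

theorem odd_twoStab {y : G ⧸ NH T} (hy : y ≠ pt T) : Odd (Nat.card (twoStab T y)) := by
  obtain ⟨g, rfl⟩ := QuotientGroup.mk_surjective y
  have hg : g ∉ NH T := fun hg => hy (by rw [← smul_pt, smul_pt_iff.2 hg])
  have e : twoStab T (g : G ⧸ NH T) = NH T ⊓ (NH T).map (MulAut.conj g).toMonoidHom := by
    ext d; rw [mem_twoStab, mem_inter_conj_iff]
  rw [e]
  exact h.stronglyEmbedded.2.2 g hg

theorem odd_orderOf {y : G ⧸ NH T} (hy : y ≠ pt T) {d : G} (hd : d ∈ twoStab T y) :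
    Odd (orderOf d) :=
  Odd.of_dvd_nat (h.odd_twoStab hy) (Subgroup.orderOf_dvd_natCard _ hd)

/-- A two-point stabiliser meets `A` trivially. -/
theorem eq_one_of_mem {y : G ⧸ NH T} (hy : y ≠ pt T) {d : G} (hd : d ∈ twoStab T y) (hdA : d ∈ A) :
    d = 1 := by
  by_contra hd1
  obtain ⟨w, hw, hwy⟩ := se_swap_exists h.stronglyEmbedded hy.symm
  have hwy' : w • y = pt T := invol_smul_swap hw hwy
  have hwinv : w⁻¹ = w := invol_inv hw
  have hswap : ∀ e ∈ twoStab T y, w * e * w⁻¹ ∈ twoStab T y := by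
    intro e he
    obtain ⟨e1, e2⟩ := mem_twoStab.1 he
    rw [hwinv]
    exact mem_twoStab.2 ⟨by rw [mul_smul, mul_smul, hwy, e2, hwy'],
      by rw [mul_smul, mul_smul, hwy', e1, hwy]⟩
  have hwH : w ∉ NH T := fun hwH => hy (hwy.symm.trans (smul_pt_iff.2 hwH))
  -- `d` commutes with `e = w d w`, hence `e ∈ A`
  set e := w * d * w⁻¹ with he
  have heD := hswap d hd
  have he1 : e ≠ 1 := by simpa [he] using hd1
  have hedH : e * d * e⁻¹ * d⁻¹ ∈ A :=
    mul_mem (h.conj_mem _ heD.1 _ hdA) (inv_mem hdA)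
  have hconjA : ∀ c ∈ twoStab T y, ∀ x ∈ twoStab T y, w * x * w⁻¹ ∈ A →
      w * (c * x * c⁻¹) * w⁻¹ ∈ A := by
    intro c hc x _ hx
    have e' : w * (c * x * c⁻¹) * w⁻¹ = (w * c * w⁻¹) * (w * x * w⁻¹) * (w * c * w⁻¹)⁻¹ := by
      group
    rw [e']
    exact h.conj_mem _ (hswap c hc).1 _ hx
  have hww : ∀ x : G, w * (w * x * w⁻¹) * w⁻¹ = x := by
    intro x
    rw [hwinv, ← mul_assoc, ← mul_assoc, invol_mul_self hw, one_mul, mul_assoc, invol_mul_self hw,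
      mul_one]
  have heA' : w * e * w⁻¹ ∈ A := by rw [he, hww]; exact hdA
  have hcomm' : w * (e * d * e⁻¹ * d⁻¹) * w⁻¹ ∈ A := by
    have e' : w * (e * d * e⁻¹ * d⁻¹) * w⁻¹ =
        (w * e * w⁻¹) * (w * (d * e⁻¹ * d⁻¹) * w⁻¹) := by group
    rw [e']
    refine mul_mem heA' (hconjA d hd _ (inv_mem heD) ?_)
    have e'' : w * e⁻¹ * w⁻¹ = (w * e * w⁻¹)⁻¹ := by group
    rw [e'']; exact inv_mem heA'
  have hc1 : e * d * e⁻¹ * d⁻¹ = 1 := by
    by_contra hne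
    exact hwH (h.mem_NH w _ hedH hne hcomm')
  have hed : Commute e d := by
    show e * d = d * e
    calc e * d = (e * d * e⁻¹ * d⁻¹) * (d * e) := by group
      _ = d * e := by rw [hc1, one_mul]
  exact hwH (h.mem_NH w d hdA hd1 (h.mem_of_commute d hdA hd1 e hed))

theorem semireg {y : G ⧸ NH T} (hy : y ≠ pt T) {d a : G} (hd : d ∈ twoStab T y)
    (ha : a ∈ A) (ha1 : a ≠ 1) (hc : Commute d a) : d = 1 :=
  h.eq_one_of_mem hy hd (h.mem_of_commute a ha ha1 d hc)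

theorem A_inj {a b : G} (ha : a ∈ A) (hb : b ∈ A) {y : G ⧸ NH T}
    (hy : y ≠ pt T) (hab : a • y = b • y) : a = b := by
  have hm : b⁻¹ * a ∈ twoStab T y := mem_twoStab.2
    ⟨smul_pt_iff.2 (h.A_le_NH (mul_mem (inv_mem hb) ha)), by rw [mul_smul, hab, inv_smul_smul]⟩
  exact (inv_mul_eq_one.1 (h.eq_one_of_mem hy hm (mul_mem (inv_mem hb) ha))).symm

theorem z_invol : ∃ s ∈ A, orderOf s = 2 := by
  obtain ⟨s, hsH, hs⟩ := se_exists_invol h.stronglyEmbedded
  exact ⟨s, h.T_le (h.mem_T _ hs hsH), hs⟩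

theorem orbit_A {y : G ⧸ NH T} (hy : y ≠ pt T) {g : G} (hg : g ∈ NH T) :
    ∃ a ∈ A, g • y = a • y := by
  obtain ⟨s, hs, hs2⟩ := h.z_invol
  have hs1 := invol_ne_one hs2
  obtain ⟨d, h1, h2, hdt⟩ := se_stab_transitive h.stronglyEmbedded hy.symm hs2
    ((orderOf_conj_eq g s).trans hs2) (smul_pt_iff.2 (h.A_le_NH hs))
    (smul_pt_iff.2 (h.A_le_NH (h.conj_mem _ hg _ hs)))
  have hdH : d ∈ NH T := smul_pt_iff.1 h1
  have ha : d⁻¹ * g ∈ A := by
    refine h.mem_of_commute s hs hs1 _ ?_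
    show d⁻¹ * g * s = s * (d⁻¹ * g)
    calc d⁻¹ * g * s = d⁻¹ * (g * s * g⁻¹) * g := by group
      _ = d⁻¹ * (d * s * d⁻¹) * g := by rw [hdt]
      _ = s * (d⁻¹ * g) := by group
  refine ⟨d * (d⁻¹ * g) * d⁻¹, h.conj_mem _ hdH _ ha, ?_⟩
  have hy' : d⁻¹ • y = y := inv_smul_eq_iff.2 h2.symm
  rw [mul_smul, hy', mul_inv_cancel_left]

theorem card_twoStab {y : G ⧸ NH T} (hy : y ≠ pt T) :
    Nat.card (twoStab T y) = Nat.card {t : G // orderOf t = 2 ∧ t ∈ NH T} := by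
  classical
  obtain ⟨s, hs, hs2⟩ := h.z_invol
  let f : twoStab T y → {t : G // orderOf t = 2 ∧ t ∈ NH T} := fun d =>
    ⟨d.1 * s * d.1⁻¹, (orderOf_conj_eq d.1 s).trans hs2, h.A_le_NH (h.conj_mem _ d.2.1 _ hs)⟩
  have hf : Function.Bijective f := by
    constructor
    · intro d d' e
      have e' : d.1 * s * d.1⁻¹ = d'.1 * s * d'.1⁻¹ := congrArg Subtype.val e
      have := h.semireg hy (mul_mem (inv_mem d'.2) d.2) hs (invol_ne_one hs2) (by
        show d'.1⁻¹ * d.1 * s = s * (d'.1⁻¹ * d.1)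
        calc d'.1⁻¹ * d.1 * s = d'.1⁻¹ * (d.1 * s * d.1⁻¹) * d.1 := by group
          _ = d'.1⁻¹ * (d'.1 * s * d'.1⁻¹) * d.1 := by rw [e']
          _ = _ := by group)
      exact Subtype.ext (inv_mul_eq_one.1 this).symm
    · rintro ⟨t, ht, htH⟩
      obtain ⟨d, h1, h2, hdt⟩ := se_stab_transitive h.stronglyEmbedded hy.symm hs2 ht
        (smul_pt_iff.2 (h.A_le_NH hs)) (smul_pt_iff.2 htH)
      exact ⟨⟨d, mem_twoStab.2 ⟨h1, h2⟩⟩, Subtype.ext hdt⟩
  exact Nat.card_congr (Equiv.ofBijective f hf)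

theorem invert_pt {y : G ⧸ NH T} (hy : y ≠ pt T) {w d : G} (hw : orderOf w = 2)
    (hwy : w • pt T = y) (hd : d ∈ twoStab T y) : w * d * w⁻¹ = d⁻¹ := by
  classical
  let f : {i : G // orderOf i = 2 ∧ i • pt T = y} → twoStab T y := fun i =>
    ⟨i.1 * w, mem_twoStab.2 ⟨by rw [mul_smul, hwy, invol_smul_swap i.2.1 i.2.2],
      by rw [mul_smul, invol_smul_swap hw hwy, i.2.2]⟩⟩
  have hinj : Function.Injective f := fun i j e =>
    Subtype.ext (mul_right_cancel (congrArg Subtype.val e))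
  have hbij : Function.Bijective f := hinj.bijective_of_nat_card_le (by
    rw [se_card_swap h.stronglyEmbedded hy.symm, h.card_twoStab hy])
  obtain ⟨⟨i, hi, hiy⟩, hid⟩ := hbij.2 ⟨d, hd⟩
  rw [show d = i * w from (congrArg Subtype.val hid).symm, mul_inv_rev, invol_inv hi, invol_inv hw,
    mul_assoc, mul_assoc, invol_mul_self hw, mul_one]

theorem invert {x y : G ⧸ NH T} (hxy : x ≠ y) {w d : G} (hw : orderOf w = 2) (hwy : w • x = y)
    (hdx : d • x = x) (hdy : d • y = y) : w * d * w⁻¹ = d⁻¹ := by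
  obtain ⟨g, rfl⟩ := QuotientGroup.mk_surjective x
  have hg : g⁻¹ • (g : G ⧸ NH T) = pt T := by rw [← smul_pt, inv_smul_smul]
  have e := h.invert_pt (y := g⁻¹ • y) (w := g⁻¹ * w * g) (d := g⁻¹ * d * g)
    (fun e => hxy (by rw [← smul_pt, ← e, smul_inv_smul]))
    (by rw [orderOf_conj_inv_eq, hw]) (by rw [mul_smul, mul_smul, smul_pt, hwy])
    (mem_twoStab.2 ⟨by rw [mul_smul, mul_smul, smul_pt, hdx, hg],
      by rw [mul_smul, mul_smul, smul_inv_smul, hdy]⟩)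
  calc w * d * w⁻¹ = g * (g⁻¹ * w * g * (g⁻¹ * d * g) * (g⁻¹ * w * g)⁻¹) * g⁻¹ := by group
    _ = g * (g⁻¹ * d * g)⁻¹ * g⁻¹ := by rw [e]
    _ = d⁻¹ := by group

/-- Involutions fixing the same point commute. -/
theorem invol_commute {i j : G} (hi : orderOf i = 2) (hj : orderOf j = 2) {r : G ⧸ NH T}
    (hir : i • r = r) (hjr : j • r = r) : Commute i j := by
  obtain ⟨g, rfl⟩ := QuotientGroup.mk_surjective r
  have hi'' : orderOf (g⁻¹ * i * g) = 2 := by rw [orderOf_conj_inv_eq, hi]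
  have hi' := h.mem_T _ hi'' ((fix_coset_iff _ _).1 hir)
  have hj' := h.mem_T (g⁻¹ * j * g) (by rw [orderOf_conj_inv_eq, hj])
    ((fix_coset_iff _ _).1 hjr)
  have e := (h.central _ hi' hi'' _ (h.T_le hj')).symm.map (MulAut.conj g).toMonoidHom
  simpa [mul_assoc] using e

/-- Involutions centralising a common non-identity element of odd order commute. -/
theorem commute_invol {d i j : G} (hd1 : d ≠ 1) (hj : orderOf j = 2) (hi : orderOf i = 2)
    (hjd : Commute j d) (hid : Commute i d) : Commute j i := by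
  obtain ⟨r, hir, -⟩ := se_existsUnique_fix h.stronglyEmbedded hi
  obtain ⟨g, rfl⟩ := QuotientGroup.mk_surjective r
  have hi'' : orderOf (g⁻¹ * i * g) = 2 := by rw [orderOf_conj_inv_eq, hi]
  have hi' := h.mem_T _ hi'' ((fix_coset_iff _ _).1 hir)
  have hd' : g⁻¹ * d * g ∈ A := h.mem_of_commute _ (h.T_le hi') (invol_ne_one hi'') _ (by
    simpa using hid.symm.map (MulAut.conj g⁻¹).toMonoidHom)
  have hjA : g⁻¹ * j * g ∈ A := h.mem_of_commute _ hd'
    (fun e => hd1 (by simpa [mul_assoc] using congrArg (fun x => g * x * g⁻¹) e)) _ (by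
    simpa using hjd.map (MulAut.conj g⁻¹).toMonoidHom)
  have e := (h.central _ hi' hi'' _ hjA).map (MulAut.conj g).toMonoidHom
  simpa [mul_assoc] using e

theorem eq_one_of_commute_invol {y : G ⧸ NH T} (hy : y ≠ pt T) {i d : G} (hi : orderOf i = 2)
    (hd : d ∈ twoStab T y) (hc : Commute i d) : d = 1 := by
  by_contra hd1
  obtain ⟨w, hw, hwy⟩ := se_swap_exists h.stronglyEmbedded hy.symm
  have hwd := h.invert_pt hy hw hwy hd
  obtain ⟨r, hir, -⟩ := se_existsUnique_fix h.stronglyEmbedded hi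
  set j := w * i * w⁻¹ with hj
  have hj2 : orderOf j = 2 := (orderOf_conj_eq w i).trans hi
  have hjd : Commute j d := by
    have e := (hc.map (MulAut.conj w).toMonoidHom)
    simp only [MulEquiv.coe_toMonoidHom, MulAut.conj_apply, hwd] at e
    simpa [hj] using e.inv_right
  have hij : Commute j i := h.commute_invol hd1 hj2 hi hjd hc
  have hjr : j • r = r := se_fix_of_commute h.stronglyEmbedded hi hij hir
  have hjwr : j • w • r = w • r := by
    rw [hj, ← mul_smul, inv_mul_cancel_right, mul_smul, hir]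
  have hwr : w • r = r := se_fix_eq h.stronglyEmbedded hj2 hjwr hjr
  have hwi : Commute w i := h.invol_commute hw hi hwr hir
  have hwd' : Commute w d := h.cop hi hwi hc.symm
    (CfsgLib.TICent.coprime_of_two ⟨1, by rw [pow_one, pow_two, invol_mul_self hw]⟩ (h.odd_orderOf hy hd))
  rw [hwd'.eq, mul_inv_cancel_right] at hwd
  exact hd1 (eq_one_of_sq_of_odd (by
    conv_lhs => rw [hwd]; arg 2; rw [hwd, inv_inv]
    exact inv_mul_cancel d) (h.odd_orderOf hy hd))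

/-- A non-trivial element of a two-point stabiliser fixes exactly these two points. -/
theorem fix_two {y p : G ⧸ NH T} (hy : y ≠ pt T) {d : G} (hd : d ∈ twoStab T y) (hd1 : d ≠ 1)
    (hp : d • p = p) : p = pt T ∨ p = y := by
  classical
  by_contra hne
  push Not at hne
  obtain ⟨hp1, hpy⟩ := hne
  obtain ⟨hdx, hdy⟩ := mem_twoStab.1 hd
  set C := Subgroup.centralizer ({d} : Set G)
  have hstep : ∀ a b r : G ⧸ NH T, a ≠ r → r ≠ b → d • a = a → d • b = b → d • r = r →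
      ∃ c ∈ C, c • a = b := by
    intro a b r har hrb ha hb hr
    obtain ⟨w1, hw1, hw1a⟩ := se_swap_exists h.stronglyEmbedded har
    obtain ⟨w2, hw2, hw2a⟩ := se_swap_exists h.stronglyEmbedded hrb
    refine ⟨w2 * w1, ?_, by rw [mul_smul, hw1a, hw2a]⟩
    rw [Subgroup.mem_centralizer_singleton_iff]
    have e1 := h.invert har hw1 hw1a ha hr
    have e2 := h.invert hrb hw2 hw2a hr hb
    calc w2 * w1 * d = w2 * (w1 * d * w1⁻¹) * w1 := by group
      _ = (w2 * d * w2⁻¹)⁻¹ * (w2 * w1) := by rw [e1]; group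
      _ = d * (w2 * w1) := by rw [e2, inv_inv]
  have hfix : ∀ q, d • q = q → q ∈ MulAction.orbit C (pt T) := by
    intro q hq
    by_cases hq1 : q = pt T
    · rw [hq1]; exact MulAction.mem_orbit_self _
    obtain ⟨r, hr, hr1, hrq⟩ : ∃ r, d • r = r ∧ pt T ≠ r ∧ r ≠ q := by
      by_cases hqy : q = y
      · exact ⟨p, hp, hp1.symm, hqy ▸ hpy⟩
      · exact ⟨y, hdy, hy.symm, Ne.symm hqy⟩
    obtain ⟨c, hc, hcq⟩ := hstep _ q r hr1 hrq hdx hq hr
    exact ⟨⟨c, hc⟩, hcq⟩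
  have horb : ∀ q, q ∈ MulAction.orbit C (pt T) ↔ d • q = q := by
    refine fun q => ⟨?_, hfix q⟩
    rintro ⟨⟨c, hc⟩, rfl⟩
    show d • c • pt T = c • pt T
    rw [← mul_smul, ← Subgroup.mem_centralizer_singleton_iff.1 hc, mul_smul, hdx]
  have hCodd : Odd (Nat.card C) := Nat.not_even_iff_odd.1 fun hev => by
    obtain ⟨i, hiC, hi⟩ := exists_invol_mem hev
    exact hd1 (h.eq_one_of_commute_invol hy hi hd (Subgroup.mem_centralizer_singleton_iff.1 hiC))
  have := Fintype.ofFinite (G ⧸ NH T)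
  have hodd : Odd (Nat.card (MulAction.orbit C (pt T))) := by
    refine Odd.of_dvd_nat hCodd ?_
    rw [Nat.card_coe_set_eq, ← MulAction.index_stabilizer]
    exact Subgroup.index_dvd_card _
  obtain ⟨w, hw, hwy⟩ := se_swap_exists h.stronglyEmbedded hy.symm
  have hwd : w * d * w⁻¹ = d⁻¹ := h.invert_pt hy hw hwy hd
  have e : d * w = w * d⁻¹ := by
    calc d * w = (w * d * w⁻¹)⁻¹ * w := by rw [hwd, inv_inv]
      _ = w * d⁻¹ := by group
  have hmap : ∀ q : G ⧸ NH T, d • q = q → d • w • q = w • q := by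
    intro q hq
    rw [← mul_smul, e, mul_smul, inv_smul_eq_iff.2 hq.symm]
  let σ : Equiv.Perm {q : G ⧸ NH T // d • q = q} :=
    ⟨fun q => ⟨w • q.1, hmap _ q.2⟩, fun q => ⟨w • q.1, hmap _ q.2⟩,
      fun q => Subtype.ext (show w • w • q.1 = q.1 by rw [← mul_smul, invol_mul_self hw, one_smul]),
      fun q => Subtype.ext (show w • w • q.1 = q.1 by rw [← mul_smul, invol_mul_self hw, one_smul])⟩
  have : Fact (Nat.Prime 2) := ⟨Nat.prime_two⟩
  obtain ⟨⟨r, hr⟩, hrfix⟩ := Equiv.Perm.exists_fixed_point_of_prime (p := 2) (n := 1) (σ := σ)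
    (by
      rw [← Nat.card_eq_fintype_card, ← Nat.card_congr (Equiv.subtypeEquivRight horb)]
      exact fun h2 => Nat.not_even_iff_odd.2 hodd (even_iff_two_dvd.2 h2))
    (by
      ext q
      simp [σ, pow_two, ← mul_smul, invol_mul_self hw])
  have hwr : w • r = r := congrArg Subtype.val hrfix
  -- `w` and its conjugate by `d` both fix `r`, so commute
  have hj : orderOf (d * w * d⁻¹) = 2 := (orderOf_conj_eq d w).trans hw
  have hjr : (d * w * d⁻¹) • r = r := by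
    rw [mul_smul, mul_smul, inv_smul_eq_iff.2 hr.symm, hwr, hr]
  have hcm := (h.invol_commute hw hj hwr hjr).eq
  have e2 : d * w * d⁻¹ = w * (d * d)⁻¹ := by rw [e]; group
  rw [e2] at hcm
  have h3 : w * (w * (d * d)⁻¹) = (w * w) * (d * d)⁻¹ := (mul_assoc _ _ _).symm
  have h4 : w * (d * d)⁻¹ * w = (w * w) * (d * d) := by
    have e5 : (d * d)⁻¹ * w = w * (d * d) := by
      calc (d * d)⁻¹ * w = w * ((w⁻¹ * d * w)⁻¹ * (w⁻¹ * d * w)⁻¹) := by group
        _ = w * (d * d) := by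
          rw [show w⁻¹ * d * w = d⁻¹ by rw [mul_assoc, e, inv_mul_cancel_left], inv_inv]
    rw [mul_assoc, e5, ← mul_assoc]
  rw [h3, h4] at hcm
  have e3 : d * d * (d * d) = 1 := by
    have := mul_left_cancel hcm
    calc d * d * (d * d) = d * d * (d * d)⁻¹ := by rw [this]
      _ = 1 := mul_inv_cancel _
  have h1 : d * d = 1 := by
    refine eq_one_of_sq_of_odd e3 (Odd.of_dvd_nat (h.odd_orderOf hy hd) ?_)
    rw [← pow_two]
    exact orderOf_pow_dvd 2
  exact hd1 (eq_one_of_sq_of_odd h1 (h.odd_orderOf hy hd))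

theorem exists_twoStab_ne_one {y : G ⧸ NH T} (hy : y ≠ pt T) : ∃ d ∈ twoStab T y, d ≠ 1 := by
  by_contra hc
  push Not at hc
  have e : twoStab T y = ⊥ := (Subgroup.eq_bot_iff_forall _).2 hc
  have h1 := h.card_twoStab hy
  rw [e, Subgroup.card_bot] at h1
  obtain ⟨s, t, hs, ht, hs2, ht2, hne⟩ := h.many
  exact hne (congrArg Subtype.val ((Nat.card_eq_one_iff_unique.1 h1.symm).1.elim
    (⟨s, hs2, Subgroup.le_normalizer hs⟩ : {i : G // orderOf i = 2 ∧ i ∈ NH T})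
    ⟨t, ht2, Subgroup.le_normalizer ht⟩))

theorem three_fix_pt {y p : G ⧸ NH T} (hy : y ≠ pt T) (hp : p ≠ pt T) (hpy : p ≠ y) {g : G}
    (h1 : g • pt T = pt T) (h2 : g • y = y) (h3 : g • p = p) : g = 1 := by
  by_contra hg
  exact (h.fix_two hy (mem_twoStab.2 ⟨h1, h2⟩) hg h3).elim hp hpy

theorem three_fix {g : G} {x y z : G ⧸ NH T} (hxy : x ≠ y) (hxz : x ≠ z) (hyz : y ≠ z)
    (h1 : g • x = x) (h2 : g • y = y) (h3 : g • z = z) : g = 1 := by
  obtain ⟨k, rfl⟩ := QuotientGroup.mk_surjective x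
  have e := h.three_fix_pt (g := k⁻¹ * g * k) (y := k⁻¹ • y) (p := k⁻¹ • z)
    (fun e => hxy (by rw [← smul_pt, ← e, smul_inv_smul]))
    (fun e => hxz (by rw [← smul_pt, ← e, smul_inv_smul]))
    (fun e => hyz (MulAction.injective k⁻¹ e).symm)
    (by rw [mul_smul, mul_smul, smul_pt, h1, ← smul_pt, inv_smul_smul])
    (by rw [mul_smul, mul_smul, smul_inv_smul, h2])
    (by rw [mul_smul, mul_smul, smul_inv_smul, h3])
  calc g = k * (k⁻¹ * g * k) * k⁻¹ := by group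
    _ = 1 := by rw [e]; group

theorem A_transitive {y p : G ⧸ NH T} (hy : y ≠ pt T) (hp : p ≠ pt T) :
    ∃ a ∈ A, a • p = y := by
  obtain ⟨d, hd, hd1⟩ := h.exists_twoStab_ne_one hy
  obtain ⟨a, ha, hap⟩ := h.orbit_A hp (g := d) hd.1
  let f : ↥A → ↥A := fun c =>
    ⟨c.1⁻¹ * (d * c.1 * d⁻¹), mul_mem (inv_mem c.2) (h.conj_mem _ hd.1 _ c.2)⟩
  have hinj : Function.Injective f := by
    intro c c' e
    have e' : c.1⁻¹ * (d * c.1 * d⁻¹) = c'.1⁻¹ * (d * c'.1 * d⁻¹) := congrArg Subtype.val e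
    by_contra hne
    refine hd1 (h.semireg hy hd (mul_mem c.2 (inv_mem c'.2))
      (fun e1 => hne (Subtype.ext (mul_inv_eq_one.1 e1))) ?_)
    have hce : c.1 * c'.1⁻¹ = d * c.1 * d⁻¹ * (d * c'.1 * d⁻¹)⁻¹ := by
      calc c.1 * c'.1⁻¹ = c.1 * (c'.1⁻¹ * (d * c'.1 * d⁻¹)) * (d * c'.1 * d⁻¹)⁻¹ := by group
        _ = _ := by rw [← e']; group
    show d * (c.1 * c'.1⁻¹) = c.1 * c'.1⁻¹ * d
    calc d * (c.1 * c'.1⁻¹) = d * c.1 * d⁻¹ * (d * c'.1 * d⁻¹)⁻¹ * d := by group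
      _ = _ := by rw [← hce]
  obtain ⟨c, hc⟩ := (Finite.injective_iff_surjective.1 hinj) ⟨a⁻¹, inv_mem ha⟩
  have hc' : c.1⁻¹ * (d * c.1 * d⁻¹) = a⁻¹ := congrArg Subtype.val hc
  have hfix : d • c.1 • p = c.1 • p := by
    calc d • c.1 • p = (d * c.1 * d⁻¹) • d • p := by simp [← mul_smul]
      _ = (c.1 * (c.1⁻¹ * (d * c.1 * d⁻¹))) • a • p := by rw [hap, mul_inv_cancel_left]
      _ = _ := by rw [hc', mul_smul, inv_smul_smul]
  refine ⟨c.1, c.2, (h.fix_two hy hd hd1 hfix).resolve_left fun e => hp ?_⟩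
  rw [eq_inv_smul_iff.2 e, smul_pt_iff]
  exact inv_mem (h.A_le_NH c.2)

theorem exists_ne_pt : ∃ y : G ⧸ NH T, y ≠ pt T := by
  obtain ⟨g, -, hg⟩ := SetLike.exists_of_lt h.stronglyEmbedded.1.lt_top
  exact ⟨g, fun e => hg (smul_pt_iff.1 ((smul_pt g).trans e))⟩

theorem two_trans : MulAction.IsMultiplyPretransitive G (G ⧸ NH T) 2 := by
  have key : ∀ x y : G ⧸ NH T, x ≠ y → ∀ q, q ≠ pt T → ∃ g : G, g • x = pt T ∧ g • y = q := by
    intro x y hxy q hq
    obtain ⟨k, rfl⟩ := QuotientGroup.mk_surjective x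
    have hk : k⁻¹ • (k : G ⧸ NH T) = pt T := by rw [← smul_pt, inv_smul_smul]
    have h2 : k⁻¹ • y ≠ pt T := fun e => hxy (by rw [← smul_pt, ← e, smul_inv_smul])
    obtain ⟨a, ha, hax⟩ := h.A_transitive hq h2
    exact ⟨a * k⁻¹, by rw [mul_smul, hk, smul_pt_iff.2 (h.A_le_NH ha)], by rw [mul_smul, hax]⟩
  obtain ⟨q, hq⟩ := h.exists_ne_pt
  rw [MulAction.is_two_pretransitive_iff]
  intro a b c d hab hcd
  obtain ⟨g, g1, g2⟩ := key a b hab q hq
  obtain ⟨k, k1, k2⟩ := key c d hcd q hq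
  exact ⟨k⁻¹ * g, by rw [mul_smul, g1, ← k1, inv_smul_smul],
    by rw [mul_smul, g2, ← k2, inv_smul_smul]⟩

theorem exists_stab_ne_bot (N : Subgroup G) (hN : N.Normal)
    (htr : MulAction.IsPretransitive N (G ⧸ NH T)) :
    ∃ a : G ⧸ NH T, MulAction.stabilizer N a ≠ ⊥ := by
  by_contra hcon
  push Not at hcon
  have hfix : ∀ n ∈ N, n ∈ NH T → n = 1 := fun n hn hnH => by
    have := (Subgroup.eq_bot_iff_forall _).1 (hcon (pt T)) ⟨n, hn⟩ (smul_pt_iff.2 hnH)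
    exact congrArg Subtype.val this
  obtain ⟨s, t, hs, ht, hs2, ht2, hne⟩ := h.many
  have hinv : ∀ u ∈ (T : Subgroup G), orderOf u = 2 → ∀ n ∈ N, u * n * u⁻¹ = n⁻¹ := by
    intro u hu hu2
    let f : N → N := fun n => ⟨n.1⁻¹ * (u * n.1 * u⁻¹), mul_mem (inv_mem n.2) (hN.conj_mem _ n.2 u)⟩
    have hf : Function.Injective f := by
      intro m n e
      have e' : m.1⁻¹ * (u * m.1 * u⁻¹) = n.1⁻¹ * (u * n.1 * u⁻¹) := congrArg Subtype.val e
      have hc : Commute (n.1 * m.1⁻¹) u := by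
        have e1 : n.1 * m.1⁻¹ = u * (n.1 * m.1⁻¹) * u⁻¹ := by
          calc n.1 * m.1⁻¹ = n.1 * (m.1⁻¹ * (u * m.1 * u⁻¹)) * (u * m.1 * u⁻¹)⁻¹ := by group
            _ = _ := by rw [e']; group
        exact eq_mul_inv_iff_mul_eq.1 e1
      exact Subtype.ext (mul_inv_eq_one.1 (hfix _ (mul_mem n.2 (inv_mem m.2))
        (h.A_le_NH (h.mem_of_commute u (h.T_le hu) (invol_ne_one hu2) _ hc)))).symm
    intro n hn
    obtain ⟨m, hm⟩ := (Finite.injective_iff_surjective.1 hf) ⟨n, hn⟩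
    rw [show n = m.1⁻¹ * (u * m.1 * u⁻¹) from (congrArg Subtype.val hm).symm, invol_inv hu2]
    have huu := invol_mul_self hu2
    calc u * (m.1⁻¹ * (u * m.1 * u)) * u = u * m.1⁻¹ * u * m.1 * (u * u) := by group
      _ = u * m.1⁻¹ * u * m.1 := by rw [huu, mul_one]
      _ = (m.1⁻¹ * (u⁻¹ * m.1 * u⁻¹))⁻¹ := by group
      _ = _ := by rw [invol_inv hu2]
  obtain ⟨y, hy⟩ := h.exists_ne_pt
  obtain ⟨⟨n, hn⟩, hny⟩ := htr.exists_smul_eq (pt T) y
  have hny' : n • pt T = y := hny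
  refine hy (hny'.symm.trans (smul_pt_iff.2 (h.A_le_NH ?_)))
  refine h.mem_of_commute (s * t) (h.T_le (mul_mem hs ht))
    (fun e => hne (by rw [eq_comm, ← inv_mul_eq_one, invol_inv ht2]; exact (mul_eq_one_comm).1 e)) n ?_
  have e : (s * t) * n * (s * t)⁻¹ = n := by
    rw [show (s * t) * n * (s * t)⁻¹ = s * (t * n * t⁻¹) * s⁻¹ by group, hinv t ht ht2 n hn,
      hinv s hs hs2 _ (inv_mem hn), inv_inv]
  exact (mul_inv_eq_iff_eq_mul.1 e).symm

theorem isZassenhaus : Cfsg.IsZassenhausGroup G (G ⧸ NH T) := by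
  obtain ⟨y, hy⟩ := h.exists_ne_pt
  obtain ⟨d, hd, hd1⟩ := h.exists_twoStab_ne_one hy
  obtain ⟨e1, e2⟩ := mem_twoStab.1 hd
  have hf : FaithfulSMul G (G ⧸ NH T) := by
    refine ⟨fun {g k} hgk => ?_⟩
    obtain ⟨z, hz, hz2⟩ := h.z_invol
    have hfix : ∀ q : G ⧸ NH T, (k⁻¹ * g) • q = q := fun q => by
      rw [mul_smul, hgk, inv_smul_smul]
    obtain ⟨r, hr1, hr2⟩ : ∃ r : G ⧸ NH T, r ≠ pt T ∧ r ≠ y := by
      refine ⟨z • y, fun e => hy ?_, fun e => invol_ne_one hz2 ?_⟩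
      · rw [eq_inv_smul_iff.2 e, smul_pt_iff]; exact inv_mem (h.A_le_NH hz)
      · exact h.A_inj hz (one_mem _) hy (by rw [one_smul, e])
    exact (inv_mul_eq_one.1 (h.three_fix_pt hy hr1 hr2 (hfix _) (hfix _) (hfix _))).symm
  exact ⟨hf, h.two_trans, fun g a b c hab hbc hac => h.three_fix hab hac hbc,
    ⟨d, hd1, pt T, y, hy.symm, e1, e2⟩, fun N hN htr => h.exists_stab_ne_bot N hN htr⟩

end Ctx

end CfsgLib.Suzuki.TIKernel
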